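import Cfsg.Agent.PreUniqCo.Adapt
import Cfsg.Agent.MFive.JTwo

/-!
# Preuniqueness for `Co1`, `p = 5`
-/

set_option autoImplicit false

namespace Cfsg.Agent.PreUniqCo.CoOneFive

open Cfsg Cfsg.Spor Cfsg.Agent.PreUniq

universe u

/-- **Co1, p = 5** -/
theorem co1_5 {G : Type u} [Group G] (h : IsoCo1 G) : NoPre 5 G :=
  Adapt.co1_5_of_j2 (fun _ hs hfr => Cfsg.Agent.MFive.JTwo.isoJ2 hs hfr) h

end Cfsg.Agent.PreUniqCo.CoOneFive
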